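import Groth.Agent.CohCmpLib.HomFrame
import Groth.Agent.FlatLib.QStalk

/-!
A finite locally free module of constant rank has a frame near any finite set of points of an affine open.
-/

set_option autoImplicit false
set_option maxRecDepth 8000

noncomputable section

universe u

open CategoryTheory CategoryTheory.Limits AlgebraicGeometry TopologicalSpace Opposite
open ProjFormLib (ger res ger_res ger_smul exists_ger IsFrame exists_frame)
open CohCmpLib (stk)

namespace SemiLocFreeLib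

variable {Y : Scheme.{u}} {E : Y.Modules}

/-- The germs of the sections span the stalk. -/
def SpanAt {r : ℕ} {V : Y.Opens} (m : Fin r → Γ(E, V)) (y : Y) (hy : y ∈ V) : Prop :=
  Function.Surjective (Fintype.linearCombination (Y.presheaf.stalk y) fun l => ger E y hy (m l))

theorem spanAt_res {r : ℕ} {V W : Y.Opens} (h : W ≤ V) {m : Fin r → Γ(E, V)} (y : Y) (hy : y ∈ W)
    (hs : SpanAt m y (h hy)) : SpanAt (fun l => res E h (m l)) y hy := by
  simpa only [SpanAt, ger_res] using hs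

theorem exists_spanAt_nhd (hE : FlatMod.IsFinLocFree E) {r : ℕ} {V : Y.Opens} (m : Fin r → Γ(E, V))
    {z : Y} (hz : z ∈ V) (hs : SpanAt m z hz) :
    ∃ (W : Y.Opens) (h : W ≤ V), z ∈ W ∧ ∀ y (hy : y ∈ W), SpanAt m y (h hy) := by
  classical
  obtain ⟨U, k, b, hzU, hb⟩ := exists_frame hE z
  choose c hc using fun j => hs (ger E z hzU (b j))
  choose Wc hWc rc hrc using fun t : Fin k × Fin r => Y.presheaf.exists_germ_eq (x := z) (c t.1 t.2)
  let Wall : Y.Opens := Finset.univ.inf Wc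
  have hzW : z ∈ Wall := Finset.inf_induction (p := fun W : Y.Opens => z ∈ W) trivial
    (fun _ h₁ _ h₂ => ⟨h₁, h₂⟩) fun t _ => hWc t
  let T := Wall ⊓ (V ⊓ U)
  have hzT : z ∈ T := ⟨hzW, hz, hzU⟩
  have hTV : T ≤ V := inf_le_right.trans inf_le_left
  have hTU : T ≤ U := inf_le_right.trans inf_le_right
  let rr : Fin k → Fin r → Γ(Y, T) := fun j l =>
    Y.presheaf.map (homOfLE ((inf_le_left : T ≤ Wall).trans (Finset.inf_le (Finset.mem_univ (j, l))))).op
      (rc (j, l))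
  have he : ∀ j, ger E z hzT (∑ l, rr j l • res E hTV (m l)) = ger E z hzT (res E hTU (b j)) := fun j => by
    rw [CohCmpLib.ger_sum, ger_res, ← hc j, Fintype.linearCombination_apply]
    exact Finset.sum_congr rfl fun l _ => by rw [ger_smul, ger_res, TopCat.Presheaf.germ_res_apply, hrc]
  choose Wj hWj i₁ i₂ hj using fun j => E.presheaf.germ_eq z hzT hzT _ _ (he j)
  obtain ⟨W₀, hW₀, hle⟩ := CohCmpLib.exists_nhd_le Wj hWj
  refine ⟨W₀ ⊓ T, inf_le_right.trans hTV, ⟨hW₀, hzT⟩, fun y hy => ?_⟩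
  intro a
  obtain ⟨d, rfl⟩ := (hb y (hTU hy.2)).2 a
  have hmem : ∀ j, ger E y (hTU hy.2) (b j) ∈ LinearMap.range
      (Fintype.linearCombination (Y.presheaf.stalk y) fun l => ger E y (hTV hy.2) (m l)) := fun j => by
    refine ⟨fun l => Y.presheaf.germ T y hy.2 (rr j l), ?_⟩
    rw [Fintype.linearCombination_apply]
    have h1 := congrArg (ger E y (hle j hy.1)) (hj j)
    have h2 : ger E y hy.2 (∑ l, rr j l • res E hTV (m l)) = ger E y hy.2 (res E hTU (b j)) := by
      rw [← ger_res E (i₁ j).le y (hle j hy.1), ← ger_res E (i₂ j).le y (hle j hy.1) (res E hTU (b j))]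
      exact h1
    rw [CohCmpLib.ger_sum, ger_res E hTU] at h2
    rw [← h2]
    exact Finset.sum_congr rfl fun l _ => by rw [ger_smul, ger_res]
  show _ ∈ LinearMap.range (Fintype.linearCombination (Y.presheaf.stalk y) fun l => ger E y (hTV hy.2) (m l))
  rw [Fintype.linearCombination_apply]
  exact Submodule.sum_mem _ fun j _ => Submodule.smul_mem _ _ (hmem j)

theorem exists_sections_span [Coh.IsQCoh E] {r : ℕ} {V : Y.Opens} (hV : IsAffineOpen V) (P : Finset V)
    (hst : ∀ y : Y, Nonempty (stk E y ≃ₗ[Y.presheaf.stalk y] (Fin r → Y.presheaf.stalk y))) :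
    ∃ m : Fin r → Γ(E, V), ∀ z ∈ P, (∀ w ∈ P, (hV.primeIdealOf z).asIdeal ≤ (hV.primeIdealOf w).asIdeal →
      w = z) → SpanAt m z.1 z.2 := by
  classical
  let p : V → Ideal Γ(Y, V) := fun z => (hV.primeIdealOf z).asIdeal
  have hp : ∀ z, (p z).IsPrime := fun z => (hV.primeIdealOf z).isPrime
  let Mx := P.filter fun z => ∀ w ∈ P, p z ≤ p w → w = z
  have ha : ∀ z : V, ∃ a : Γ(Y, V), z ∈ Mx → a ∉ p z ∧ ∀ w ∈ Mx, w ≠ z → a ∈ p w := fun z => by
    by_cases hz : z ∈ Mx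
    · haveI := hp z
      have : ¬ (Mx.erase z).inf p ≤ p z := fun h => by
        obtain ⟨w, hw, hle⟩ := (Ideal.IsPrime.inf_le' (hp z)).mp h
        obtain ⟨hne, hwM⟩ := Finset.mem_erase.mp hw
        exact hne ((Finset.mem_filter.mp hwM).2 z (Finset.mem_filter.mp hz).1 hle).symm
      obtain ⟨a, ha, ha'⟩ := SetLike.not_le_iff_exists.mp this
      exact ⟨a, fun _ => ⟨ha', fun w hw hne =>
        (Finset.inf_le (Finset.mem_erase.mpr ⟨hne, hw⟩) : (Mx.erase z).inf p ≤ p w) ha⟩⟩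
    · exact ⟨0, fun h => absurd h hz⟩
  choose a ha using ha
  have hmz : ∀ z : V, ∃ (b : Module.Basis (Fin r) (Y.presheaf.stalk z.1) (stk E z.1))
      (m : Fin r → Γ(E, V)) (u : Fin r → Γ(Y, V)), ∀ l, u l ∉ p z ∧
        ger E z.1 z.2 (m l) = Y.presheaf.germ V z.1 z.2 (u l) • b l := fun z => by
    obtain ⟨L⟩ := hst z.1
    let b : Module.Basis (Fin r) (Y.presheaf.stalk z.1) (stk E z.1) := Module.Basis.ofEquivFun L
    letI := Module.compHom (E.presheaf.stalk z.1) (Y.presheaf.germ V z.1 z.2).hom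
    haveI := FlatLib.isLocalizedModule_germLin E hV z.2
    choose t ht using fun l => IsLocalizedModule.surj (p z).primeCompl (FlatLib.germLin E z.2) (b l)
    exact ⟨b, fun l => (t l).1, fun l => (t l).2.1, fun l => ⟨(t l).2.2, (ht l).symm⟩⟩
  choose b mz uz hmz using hmz
  refine ⟨fun l => ∑ z ∈ Mx, a z • mz z l, fun z hz hmax => ?_⟩
  have hzM : z ∈ Mx := Finset.mem_filter.mpr ⟨hz, hmax⟩
  let R := Y.presheaf.stalk z.1
  let 𝔪 := IsLocalRing.maximalIdeal R
  let N : Submodule R (stk E z.1) :=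
    LinearMap.range (Fintype.linearCombination R fun l => ger E z.1 z.2 (∑ w ∈ Mx, a w • mz w l))
  haveI : Module.Finite R (stk E z.1) := Module.Finite.of_basis (b z)
  have hg : ∀ x, x ∈ p z → Y.presheaf.germ V z.1 z.2 x ∈ 𝔪 := fun x hx => by
    rw [IsLocalRing.mem_maximalIdeal, mem_nonunits_iff, ← Scheme.mem_basicOpen Y x z.1 z.2]
    intro h
    have : hV.primeIdealOf z ∈ hV.fromSpec ⁻¹ᵁ Y.basicOpen x := by
      show hV.fromSpec (hV.primeIdealOf z) ∈ Y.basicOpen x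
      rw [hV.fromSpec_primeIdealOf]
      exact h
    rw [hV.fromSpec_preimage_basicOpen] at this
    exact this hx
  have hu : ∀ x, x ∉ p z → IsUnit (Y.presheaf.germ V z.1 z.2 x) := fun x hx => by
    rw [← Scheme.mem_basicOpen Y x z.1 z.2, ← hV.fromSpec_primeIdealOf z]
    show hV.primeIdealOf z ∈ hV.fromSpec ⁻¹ᵁ Y.basicOpen x
    rw [hV.fromSpec_preimage_basicOpen]
    exact hx
  have hN : (⊤ : Submodule R (stk E z.1)) ≤ N ⊔ 𝔪 • ⊤ := by
    refine (b z).span_eq.ge.trans (Submodule.span_le.mpr ?_)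
    rintro _ ⟨l, rfl⟩
    set q := N ⊔ 𝔪 • (⊤ : Submodule R (stk E z.1))
    have h1 : ger E z.1 z.2 (∑ w ∈ Mx, a w • mz w l) ∈ q :=
      Submodule.mem_sup_left ⟨Pi.single l 1, by rw [Fintype.linearCombination_apply_single, one_smul]⟩
    rw [CohCmpLib.ger_sum, ← Finset.add_sum_erase Mx (fun w => ger E z.1 z.2 (a w • mz w l)) hzM] at h1
    have h2 : ∑ w ∈ Mx.erase z, ger E z.1 z.2 (a w • mz w l) ∈ q := Submodule.sum_mem _ fun w hw => by
      obtain ⟨hne, hwM⟩ := Finset.mem_erase.mp hw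
      rw [ger_smul]
      exact Submodule.mem_sup_right
        (Submodule.smul_mem_smul (hg _ ((ha w hwM).2 z hzM (Ne.symm hne))) Submodule.mem_top)
    have h3 := (q.add_mem_iff_left h2).mp h1
    rw [ger_smul, (hmz z l).2, smul_smul] at h3
    obtain ⟨v, hv⟩ := ((hu _ (ha z hzM).1).mul (hu _ (hmz z l).1)).exists_left_inv
    have h4 := q.smul_mem v h3
    rwa [smul_smul, hv, one_smul] at h4
  have hfg : (⊤ : Submodule R (stk E z.1)).FG := Module.Finite.fg_top
  have := Submodule.le_of_le_smul_of_le_jacobson_bot hfg (IsLocalRing.maximalIdeal_le_jacobson _) hN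
  exact fun x => this Submodule.mem_top

theorem exists_frame_basicOpen [Coh.IsQCoh E] (hE : FlatMod.IsFinLocFree E) {r : ℕ} {V : Y.Opens}
    (hV : IsAffineOpen V) (P : Finset V)
    (hst : ∀ y : Y, Nonempty (stk E y ≃ₗ[Y.presheaf.stalk y] (Fin r → Y.presheaf.stalk y))) :
    ∃ f : Γ(Y, V), (∀ z ∈ P, z.1 ∈ Y.basicOpen f) ∧
      ∃ e : Fin r → Γ(E, Y.basicOpen f), IsFrame E e := by
  classical
  obtain ⟨m, hm⟩ := exists_sections_span hV P hst
  let O : Y.Opens := sSup {W | ∃ h : W ≤ V, ∀ y (hy : y ∈ W), SpanAt m y (h hy)}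
  have hO : ∀ y, y ∈ O → ∀ hy : y ∈ V, SpanAt m y hy := fun y hy hyV => by
    obtain ⟨W, ⟨h, hW⟩, hyW⟩ := Opens.mem_sSup.mp hy
    exact hW y hyW
  let p : V → PrimeSpectrum Γ(Y, V) := fun z => hV.primeIdealOf z
  have hPO : ∀ z ∈ P, z.1 ∈ O := fun z hz => by
    obtain ⟨w, hwz, hw⟩ := Finset.exists_le_maximal (P.image p) (Finset.mem_image_of_mem p hz)
    obtain ⟨⟨w', hw'P, rfl⟩, hmax⟩ : (∃ w' ∈ P, p w' = w) ∧ ∀ b, b ∈ P.image p → w ≤ b → b ≤ w :=
      ⟨Finset.mem_image.mp hw.1, fun b hb => hw.2 hb⟩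
    have hs := hm w' hw'P fun v hv hle => by
      have : p v = p w' := le_antisymm (hmax _ (Finset.mem_image_of_mem p hv) hle) hle
      refine Subtype.ext ?_
      rw [← hV.fromSpec_primeIdealOf v, ← hV.fromSpec_primeIdealOf w']
      exact congrArg hV.fromSpec this
    obtain ⟨W, h, hw'W, hW⟩ := exists_spanAt_nhd hE m w'.2 hs
    have hsp : z.1 ⤳ w'.1 := by
      rw [← hV.fromSpec_primeIdealOf z, ← hV.fromSpec_primeIdealOf w']
      exact ((PrimeSpectrum.le_iff_specializes _ _).mp hwz).map hV.fromSpec.continuous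
    exact Opens.mem_sSup.mpr ⟨W, ⟨h, hW⟩, hsp.mem_open W.2 hw'W⟩
  obtain ⟨I, hI⟩ := (PrimeSpectrum.isClosed_iff_zeroLocus_ideal _).mp
    ((hV.fromSpec ⁻¹ᵁ O).2.isClosed_compl)
  have hI' : ∀ q : PrimeSpectrum Γ(Y, V), I ≤ q.asIdeal ↔ hV.fromSpec q ∉ O := fun q => by
    exact (Set.ext_iff.mp hI q).symm
  obtain ⟨f, hfI, hf⟩ : ∃ f ∈ I, ∀ z ∈ P, f ∉ (p z).asIdeal := by
    by_contra h
    push_neg at h
    have hsub : (I : Set Γ(Y, V)) ⊆ ⋃ z ∈ (↑P : Set V), ((p z).asIdeal : Set Γ(Y, V)) := fun f hf => by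
      obtain ⟨z, hz, hfz⟩ := h f hf
      exact Set.mem_biUnion hz hfz
    rcases P.eq_empty_or_nonempty with rfl | ⟨z₀, hz₀⟩
    · simpa using hsub (zero_mem I)
    · obtain ⟨z, hz, hle⟩ := (Ideal.subset_union_prime z₀ z₀ fun i _ _ _ => (p i).isPrime).mp hsub
      exact (hI' (p z)).mp hle (by rw [hV.fromSpec_primeIdealOf]; exact hPO z hz)
  have hle : Y.basicOpen f ≤ V := Y.basicOpen_le f
  have hbO : Y.basicOpen f ≤ O := fun y hy => by
    obtain ⟨q, rfl⟩ : ∃ q : PrimeSpectrum Γ(Y, V), hV.fromSpec q = y := hV.range_fromSpec.superset (hle hy)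
    by_contra hc
    have h1 : q ∈ hV.fromSpec ⁻¹ᵁ Y.basicOpen f := hy
    rw [hV.fromSpec_preimage_basicOpen] at h1
    exact h1 ((hI' q).mpr hc hfI)
  refine ⟨f, fun z hz => ?_, fun l => res E hle (m l), fun y hy => ?_⟩
  · rw [← hV.fromSpec_primeIdealOf z]
    show hV.primeIdealOf z ∈ hV.fromSpec ⁻¹ᵁ Y.basicOpen f
    rw [hV.fromSpec_preimage_basicOpen]
    exact hf z hz
  · have hs := spanAt_res hle y hy (hO y (hbO hy) (hle hy))
    obtain ⟨L⟩ := hst y
    have hinj := OrzechProperty.injective_of_surjective_endomorphism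
      (L.toLinearMap.comp (Fintype.linearCombination (Y.presheaf.stalk y) fun l => ger E y hy (res E hle (m l))))
      (L.surjective.comp hs)
    exact ⟨fun c c' h => hinj (congrArg L h), hs⟩

end SemiLocFreeLib
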